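import Groth.Agent.L24.BorelPair.Descent
import Groth.Agent.L08.Borel.MaxTorusDesc
import Groth.Agent.L08.Borel.CentBorel
import Groth.Agent.S8060

/-! A Borel pair over a finite field. -/

set_option autoImplicit false
set_option linter.style.haveILetI false
set_option linter.unusedSectionVars false
set_option backward.isDefEq.respectTransparency false
set_option backward.isDefEq.respectTransparency.types false

universe u

open CategoryTheory CategoryTheory.Limits MonoidalCategory CartesianMonoidalCategory MonObj AlgebraicGeometry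
open GalTw Groth.L24.Count
open Groth.L11.GalTwist (bcMap)
open Groth.L08.Borel (exists_borel exists_absorbing_of_borel isMaxTorus_of_absorbing exists_image_borel
  exists_image_smooth isMaxTorus_of_image isBorelOver_conjBy isMaxTorus_conjBy isBorelOver_of_iso torus_props)

noncomputable section

namespace Groth.L24.BorelPair

variable {k : Type u} [Field k] [Finite k] {kb : Type u} [Field kb] [Algebra k kb] [IsAlgClosure k kb]
  (G : Over (Spec (CommRingCat.of k))) [GrpObj G] [IsAffine G.left] [Smooth G.hom] [ConnectedSpace G.left]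

/-- A Borel pair of the geometric fibre with stable geometric points. -/
theorem exists_stable_pair : ∃ (B T : Over (Spec (CommRingCat.of kb))) (_ : GrpObj B) (_ : GrpObj T)
    (iB : B ⟶ bcK kb G) (t : T ⟶ B), Red.IsBorelOver kb iB ∧ AGF.IsMaxTorus (t ≫ iB) ∧
      IsClosedImmersion (t ≫ iB).left ∧
      (∀ g ∈ PtSet iB, frob k kb • g ∈ PtSet iB) ∧ ∀ g ∈ PtSet (t ≫ iB), frob k kb • g ∈ PtSet (t ≫ iB) := by
  haveI : IsAlgClosed kb := IsAlgClosure.isAlgClosed k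
  haveI : QuasiCompact G.hom := quasiCompact_of_compactSpace _
  obtain ⟨hA, hS, hC⟩ := bcK_props (kb := kb) G
  haveI := hA; haveI := hS; haveI := hC
  haveI : LocallyOfFiniteType (bcK kb G).hom := inferInstance
  obtain ⟨B, gB, iB, hB⟩ := exists_borel (bcK kb G)
  haveI := hB.1; haveI := hB.2.1; haveI := hB.2.2.1; haveI := hB.2.2.2.1
  haveI : Mono iB := Groth.L08.mono_of_closedImmersion iB
  haveI : IsAffine B.left := isAffine_of_isAffineHom iB.left
  obtain ⟨T, gT, t, pB, htm, htmono, hT0, -, -, -, -, habs⟩ := exists_absorbing_of_borel hB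
  haveI := htm; haveI := htmono
  obtain ⟨a1, a2, a3, -, -⟩ := torus_props hT0
  haveI := a1; haveI := a2; haveI := a3
  haveI : QuasiCompact T.hom := quasiCompact_of_compactSpace _
  have hT : AGF.IsMaxTorus (t ≫ iB) := isMaxTorus_of_absorbing (t ≫ iB) hT0 habs
  haveI := hT.1; haveI := hT.2.1
  haveI : IsAffineHom (t ≫ iB).left := isAffineHom_of_isAffine _
  haveI : IsClosedImmersion (t ≫ iB).left := Groth.L08.MonoClosed.isClosedImmersion_of_field _
  -- the image pair under the Frobenius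
  obtain ⟨Φ, hΦm, hΦs, hΦ⟩ := exists_bcFrob (kb := kb) G
  haveI := hΦm; haveI := hΦs
  obtain ⟨B₁, gB₁, p, j, -, hpj, hps, hB₁⟩ := exists_image_borel Φ hB
  haveI := hps; haveI := hB₁.1; haveI := hB₁.2.1; haveI := hB₁.2.2.1
  obtain ⟨T₁, gT₁, pT, jT, -, hjTm, hpT, hpTs, hjTc, hT₁s, -, -⟩ := exists_image_smooth ((t ≫ iB) ≫ Φ)
  haveI := hjTm; haveI := hjTc; haveI := hT₁s; haveI := hpTs
  haveI : IsReduced T₁.left := Groth.Agent.AV.isReduced_of_smooth_field T₁.hom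
  have hT₁ : AGF.IsMaxTorus jT := isMaxTorus_of_image Φ hT jT pT hpT
  have hBi := fun x => ptSet_image hΦ p iB j hpj x
  have hTi := fun x => ptSet_image hΦ pT (t ≫ iB) jT hpT x
  obtain ⟨t₁, ht₁⟩ := factor_of_ptSet jT j fun x hx => (hBi x).2 (by
    obtain ⟨y, hy⟩ := (hTi x).1 hx
    exact ⟨y ≫ t, by rw [Category.assoc, hy]⟩)
  obtain ⟨a₀, f, f', hf, hf'⟩ := Groth.Agent.S8060.result kb (bcK kb G) B B₁ T T₁ iB j hB hB₁ (t ≫ iB) jT hT hT₁
    t rfl t₁ ht₁
  obtain ⟨a, rfl⟩ := exists_secOfPt_eq a₀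
  have key : ∀ {A A₁ : Over (Spec (CommRingCat.of kb))} (i : A ⟶ bcK kb G) (i₁ : A₁ ⟶ bcK kb G) (e : A ≅ A₁),
      e.hom ≫ i₁ = AGF.conjBy (secOfPt kb a) i → ∀ x, x ∈ PtSet i₁ ↔ a⁻¹ * x * a ∈ PtSet i := by
    intro A A₁ i i₁ e he x
    rw [← ptSet_conjBy, ← he]
    refine ⟨fun ⟨y, hy⟩ => ⟨y ≫ e.inv, ?_⟩, fun ⟨y, hy⟩ => ⟨y ≫ e.hom, ?_⟩⟩
    · rw [Category.assoc, Iso.inv_hom_id_assoc, hy]
    · rw [Category.assoc, hy]
  -- Lang's theorem
  let c : G ⊗ G ⟶ G := fst G G * snd G G * (fst G G)⁻¹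
  obtain ⟨h₀, hh₀⟩ := exists_twisted_lang (kb := kb) (𝟙 G) (fun g h e => by simpa using e) c
    (by simp [c]) 1 a⁻¹
  simp only [Category.comp_id, _root_.mul_one] at hh₀
  let h := h₀⁻¹
  have hh : frob k kb • h = h * a⁻¹ := by
    show frob k kb • h₀⁻¹ = h₀⁻¹ * a⁻¹
    rw [smul_inv, ← hh₀, inv_mul_cancel_left]
  have stab : ∀ {A : Over (Spec (CommRingCat.of kb))} (i : A ⟶ bcK kb G),
      (∀ x ∈ PtSet i, a⁻¹ * (frob k kb • x) * a ∈ PtSet i) →
      ∀ g ∈ PtSet (AGF.conjBy (secOfPt kb h) i), frob k kb • g ∈ PtSet (AGF.conjBy (secOfPt kb h) i) := by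
    intro A i hi g hg
    rw [ptSet_conjBy] at hg ⊢
    have := hi _ hg
    rw [smul_mul, smul_mul, smul_inv, hh] at this
    convert this using 1
    group
  have eT : t ≫ AGF.conjBy (secOfPt kb h) iB = AGF.conjBy (secOfPt kb h) (t ≫ iB) :=
    Groth.L08.Borel.comp_conjBy _ _ _
  refine ⟨B, T, gB, gT, AGF.conjBy (secOfPt kb h) iB, t, isBorelOver_conjBy hB _, eT ▸ isMaxTorus_conjBy hT _, ?_,
    stab iB fun x hx => ?_, eT ▸ stab (t ≫ iB) fun x hx => ?_⟩
  · rw [eT]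
    have hc := isMaxTorus_conjBy hT (secOfPt kb h)
    haveI := hc.1; haveI := hc.2.1
    haveI : IsAffineHom (AGF.conjBy (secOfPt kb h) (t ≫ iB)).left := isAffineHom_of_isAffine _
    exact Groth.L08.MonoClosed.isClosedImmersion_of_field _
  · exact (key iB j f hf _).1 ((hBi _).2 (by rwa [inv_smul_smul]))
  · exact (key (t ≫ iB) jT f' hf' _).1 ((hTi _).2 (by rwa [inv_smul_smul]))

/-- A Borel pair over the finite field. -/
theorem exists_pair : ∃ (B : Over (Spec (CommRingCat.of k))) (_ : GrpObj B) (iB : B ⟶ G)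
    (T : Over (Spec (CommRingCat.of k))) (_ : GrpObj T) (t : T ⟶ B),
      IsMonHom iB ∧ IsClosedImmersion iB.left ∧ Smooth B.hom ∧ Red.IsBorelOver kb (bcMap iB) ∧
      IsMonHom (t ≫ iB) ∧ Mono (t ≫ iB) ∧ Red.IsTorus T ∧ AGF.IsMaxTorus (bcMap (K := kb) (t ≫ iB)) := by
  haveI : IsAlgClosed kb := IsAlgClosure.isAlgClosed k
  obtain ⟨B₀, T₀, gB₀, gT₀, i₀, t₀, hB₀, hT₀, hcl, hsB, hsT⟩ := exists_stable_pair (kb := kb) G
  haveI := hB₀.1; haveI := hB₀.2.1; haveI := hB₀.2.2.1; haveI := hT₀.1; haveI := hcl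
  haveI : Smooth T₀.hom := (torus_props hT₀.2.2.1).2.1
  obtain ⟨B, gB, iB, hBm, hBc, hBs, eB, heB⟩ := exists_descent B₀ i₀ hsB
  obtain ⟨T, gT, iT, hTm, hTc, hTs, eT, heT⟩ := exists_descent T₀ (t₀ ≫ i₀) hsT
  haveI := hBm; haveI := hBc; haveI := hBs; haveI := hTm; haveI := hTc; haveI := hTs
  haveI : Mono iB := Groth.L08.mono_of_closedImmersion iB
  haveI : Mono iT := Groth.L08.mono_of_closedImmersion iT
  obtain ⟨t, ht⟩ := Groth.L08.Borel.factor_of_bc iT iB (SGA7.pt (K := k) kb).hom (eT.hom ≫ t₀ ≫ eB.inv) (by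
    show (eT.hom ≫ t₀ ≫ eB.inv) ≫ bcMap iB = bcMap iT
    rw [← heB, ← heT, Category.assoc, Category.assoc, Iso.inv_hom_id_assoc])
  haveI : IsMonHom (bcMap (K := kb) iB) := inferInstanceAs (IsMonHom ((Over.pullback _).map iB))
  haveI : IsMonHom (bcMap (K := kb) iT) := inferInstanceAs (IsMonHom ((Over.pullback _).map iT))
  haveI : Mono (bcMap (K := kb) iT) := inferInstanceAs (Mono ((Over.pullback _).map iT))
  haveI : Mono (t₀ ≫ i₀) := hT₀.2.1
  haveI : IsMonHom eT.hom :=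
    Groth.L08.Borel.isMonHom_of_comp_mono eT.hom (t₀ ≫ i₀) (bcMap iT) heT
  have hTk : Red.IsTorus (bcK kb T) := Groth.L25.TorLift.isTorus_of_iso (Grp.mkIso' eT).symm hT₀.2.2.1
  obtain ⟨hs, hfl, -⟩ := Groth.L08.Borel.bc_props_field (SGA7.pt (K := k) kb).hom
  haveI := hs; haveI := hfl
  haveI : CompactSpace ↥(SGA7.pt (K := k) kb).left := inferInstanceAs (CompactSpace ↥(Spec (CommRingCat.of kb)))
  have hTT : Red.IsTorus T := Groth.L08.Borel.isTorus_descend (SGA7.pt (K := k) kb).hom (fun V hV => by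
    rcases Set.eq_empty_or_nonempty (SetLike.coe V) with he | ⟨z, hz⟩
    · exact ⟨⊥, isCompact_empty, by simp [he]⟩
    refine ⟨⊤, isCompact_univ, Set.eq_of_subset_of_subset ?_ fun y _ => ?_⟩
    · rintro _ ⟨x, -, rfl⟩
      convert hz using 1
      exact Subsingleton.elim (α := PrimeSpectrum k) _ _
    · obtain ⟨x, rfl⟩ := (SGA7.pt (K := k) kb).hom.surjective y
      exact ⟨x, trivial, rfl⟩) hTk
  refine ⟨B, gB, iB, T, gT, t, hBm, hBc, hBs, isBorelOver_of_iso hB₀ _ eB heB, ?_⟩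
  rw [ht]
  refine ⟨hTm, inferInstance, hTT, inferInstance, inferInstance, hTk, fun T' _ jj _ _ f hT' hf => ?_⟩
  haveI : IsIso (eT.inv ≫ f) := hT₀.2.2.2 T' jj (eT.inv ≫ f) hT' (by
    rw [Category.assoc, hf, ← heT, Iso.inv_hom_id_assoc])
  exact IsIso.of_isIso_comp_left eT.inv f

end Groth.L24.BorelPair
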