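import Groth.Prelude.Def_Red2
import Groth.Prelude.Def_AGF
import Groth.Agent.L24.Count.Points
import Groth.Agent.L08.Borel.OverField
import Mathlib.AlgebraicGeometry.ResidueField
import Mathlib.FieldTheory.IsAlgClosed.AlgebraicClosure

/-! The algebraic closure at the point of the spectrum of a field, as an algebraic closure of the field. -/

set_option autoImplicit false
set_option linter.style.haveILetI false
set_option backward.isDefEq.respectTransparency false
set_option backward.isDefEq.respectTransparency.types false

universe u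

open CategoryTheory AlgebraicGeometry
open Groth.L08.Borel (pt0 geomField)

noncomputable section

namespace Groth.L24.BorelPair

variable (k : Type u) [Field k]

/-- The algebra structure given by the geometric point. -/
abbrev geomAlg : Algebra k (geomField (pt0 k)) := (Spec.preimage (Red.geomPt (pt0 k))).hom.toAlgebra

theorem pt_hom : letI := geomAlg k; (SGA7.pt (K := k) (geomField (pt0 k))).hom = Red.geomPt (pt0 k) :=
  Spec.map_preimage _

theorem isAlgClosure : letI := geomAlg k; IsAlgClosure k (geomField (pt0 k)) := by
  letI := geomAlg k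
  let e := Scheme.Spec.residueFieldIso (CommRingCat.of k) (pt0 k)
  let φ : k →+* (Spec (CommRingCat.of k)).residueField (pt0 k) :=
    e.inv.hom.comp (algebraMap k (pt0 k).asIdeal.ResidueField)
  have h : (algebraMap k (geomField (pt0 k))) =
      (algebraMap ((Spec (CommRingCat.of k)).residueField (pt0 k)) (geomField (pt0 k))).comp φ := by
    have h1 : Spec.preimage (Red.geomPt (pt0 k)) =
        (CommRingCat.ofHom (algebraMap k (pt0 k).asIdeal.ResidueField) ≫ e.inv) ≫
          CommRingCat.ofHom (algebraMap ((Spec (CommRingCat.of k)).residueField (pt0 k)) (geomField (pt0 k))) := by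
      apply Spec.map_injective
      rw [Spec.map_preimage, Spec.map_comp, Spec.map_comp]
      exact congrArg (_ ≫ ·) (Scheme.Spec.map_residueFieldIso_inv_eq_fromSpecResidueField (CommRingCat.of k) (pt0 k)).symm
    exact congrArg CommRingCat.Hom.hom h1
  have hs : Function.Surjective φ := e.commRingCatIsoToRingEquiv.symm.surjective.comp
    (Ideal.algebraMap_residueField_surjective (pt0 k).asIdeal)
  refine ⟨inferInstance, ⟨fun x => ?_⟩⟩
  obtain ⟨p, hp0, hp⟩ := Algebra.IsAlgebraic.isAlgebraic (R := (Spec (CommRingCat.of k)).residueField (pt0 k)) x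
  obtain ⟨q, rfl⟩ := Polynomial.map_surjective φ hs p
  refine ⟨q, fun hq => hp0 (by rw [hq, Polynomial.map_zero]), ?_⟩
  rw [Polynomial.aeval_def, Polynomial.eval₂_map, ← h] at hp
  rw [Polynomial.aeval_def]
  exact hp

end Groth.L24.BorelPair

namespace Groth.L24.BorelPair

open Groth.L08.Borel (eq_pt0)

variable {k : Type u} [Field k] {B G : Over (Spec (CommRingCat.of k))} [GrpObj B] [GrpObj G]

/-- The Borel property read over the chosen algebraic closure. -/
theorem isBorel_of_geom (i : B ⟶ G) [IsMonHom i] [IsClosedImmersion i.left] [Smooth B.hom]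
    (h : letI := geomAlg k;
      Red.IsBorelOver (geomField (pt0 k)) ((Over.pullback (SGA7.pt (K := k) (geomField (pt0 k))).hom).map i)) :
    Red.IsBorel i := by
  refine ⟨inferInstance, inferInstance, inferInstance, fun s => ?_⟩
  obtain rfl := eq_pt0 s
  have key : ∀ θ : Spec (CommRingCat.of (geomField (pt0 k))) ⟶ Spec (CommRingCat.of k), θ = Red.geomPt (pt0 k) →
      Red.IsBorelOver (geomField (pt0 k)) ((Over.pullback θ).map i) →
      Red.IsBorelOver (geomField (pt0 k)) ((Over.pullback (Red.geomPt (pt0 k))).map i) := by
    rintro _ rfl h'; exact h'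
  exact key _ (pt_hom k) h

/-- The maximal torus property read over the chosen algebraic closure. -/
theorem isMaximalTorus_of_geom (i : B ⟶ G) [IsMonHom i] [Mono i] (hB : Red.IsTorus B)
    (h : letI := geomAlg k;
      AGF.IsMaxTorus ((Over.pullback (SGA7.pt (K := k) (geomField (pt0 k))).hom).map i)) :
    Red.IsMaximalTorus i := by
  have key : ∀ θ : Spec (CommRingCat.of (geomField (pt0 k))) ⟶ Spec (CommRingCat.of k), θ = Red.geomPt (pt0 k) →
      AGF.IsMaxTorus ((Over.pullback θ).map i) →
      AGF.IsMaxTorus ((Over.pullback (Red.geomPt (pt0 k))).map i) := by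
    rintro _ rfl h'; exact h'
  refine ⟨inferInstance, inferInstance, hB, fun s => ?_⟩
  obtain rfl := eq_pt0 s
  exact (key _ (pt_hom k) h).2.2.2

end Groth.L24.BorelPair

namespace Groth.L24.BorelPair

open Groth.L08.Borel (eq_pt0)

variable {k : Type u} [Field k] {B G : Over (Spec (CommRingCat.of k))} [GrpObj B] [GrpObj G]

/-- The Borel property over the chosen algebraic closure. -/
theorem geom_isBorel {i : B ⟶ G} (h : Red.IsBorel i) : letI := geomAlg k;
    Red.IsBorelOver (geomField (pt0 k)) ((Over.pullback (SGA7.pt (K := k) (geomField (pt0 k))).hom).map i) := by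
  have key : ∀ θ : Spec (CommRingCat.of (geomField (pt0 k))) ⟶ Spec (CommRingCat.of k), θ = Red.geomPt (pt0 k) →
      Red.IsBorelOver (geomField (pt0 k)) ((Over.pullback θ).map i) := by
    rintro _ rfl; exact h.2.2.2 (pt0 k)
  exact key _ (pt_hom k)

end Groth.L24.BorelPair
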