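import Groth.Agent.L24.Count.TwistedLang
import Groth.Agent.L24.Count.Rational
import Groth.Agent.L24.Count.Const
import Groth.Agent.L24.Count.Flat
import Groth.Agent.L08.Borel.Borels
import Groth.Agent.L08.Borel.TorusImage
import Groth.Agent.L08.Borel.Orbit

/-! Geometric point sets of subgroups of a group over a finite field and the Frobenius acting on them. -/

set_option autoImplicit false
set_option linter.style.haveILetI false
set_option linter.unusedSectionVars false
set_option backward.isDefEq.respectTransparency false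
set_option backward.isDefEq.respectTransparency.types false

universe u

open CategoryTheory CategoryTheory.Limits MonoidalCategory CartesianMonoidalCategory MonObj AlgebraicGeometry
open GalTw Groth.L24.Count
open Groth.L11.GalTwist (bcMap)
open Groth.L08.Borel (factor_of_pts exists_pt_lift exists_image_smooth hom_ext_pts ptOf)

noncomputable section

namespace Groth.L24.BorelPair

section General

variable {k : Type u} [Field k] {kb : Type u} [Field kb] [Algebra k kb] {G : Over (Spec (CommRingCat.of k))}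

/-- The geometric points lying in a subscheme of the base change. -/
def PtSet {A : Over (Spec (CommRingCat.of kb))} (i : A ⟶ bcK kb G) : Set (SGA7.Pts kb G) :=
  {g | ∃ y : 𝟙_ _ ⟶ A, y ≫ i = secOfPt kb g}

theorem smul_mul [GrpObj G] (σ : kb ≃ₐ[k] kb) (g h : SGA7.Pts kb G) : σ • (g * h) = (σ • g) * (σ • h) :=
  MonObj.comp_mul (SGA7.specAut σ) g h

theorem smul_inv [GrpObj G] (σ : kb ≃ₐ[k] kb) (g : SGA7.Pts kb G) : σ • g⁻¹ = (σ • g)⁻¹ :=
  GrpObj.comp_inv (SGA7.specAut σ) g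

theorem secOfPt_inv [GrpObj G] (g : SGA7.Pts kb G) : secOfPt kb g⁻¹ = (secOfPt kb g)⁻¹ :=
  map_inv (MonoidHom.mk' (fun q : SGA7.Pts kb G => secOfPt kb q) secOfPt_mul) g

theorem ptSet_conjBy [GrpObj G] {A : Over (Spec (CommRingCat.of kb))} (i : A ⟶ bcK kb G) (g x : SGA7.Pts kb G) :
    x ∈ PtSet (AGF.conjBy (secOfPt kb g) i) ↔ g⁻¹ * x * g ∈ PtSet i := by
  refine exists_congr fun y => ?_
  rw [secOfPt_mul, secOfPt_mul, secOfPt_inv, MonObj.comp_mul, MonObj.comp_mul, GrpObj.comp_inv,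
    ← Category.assoc y (toUnit A), toUnit_unique (y ≫ toUnit A) (𝟙 _), Category.id_comp]
  constructor
  · intro h; rw [← h]; group
  · intro h; rw [h]; group

theorem ptSet_bcMap {A : Over (Spec (CommRingCat.of k))} (i : A ⟶ G) (x : SGA7.Pts kb G) :
    x ∈ PtSet (bcMap i) ↔ ∃ y : SGA7.Pts kb A, y ≫ i = x := by
  constructor
  · rintro ⟨y, hy⟩
    obtain ⟨q, rfl⟩ := exists_secOfPt_eq y
    exact ⟨q, secOfPt_injective (by rw [Groth.L24.Count.secOfPt_comp, hy])⟩
  · rintro ⟨y, rfl⟩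
    exact ⟨secOfPt kb y, (Groth.L24.Count.secOfPt_comp y i).symm⟩

variable [IsAlgClosed kb]

/-- A subgroup is determined by its geometric points. -/
theorem factor_of_ptSet {A A' : Over (Spec (CommRingCat.of kb))} [IsReduced A.left] [LocallyOfFiniteType A.hom]
    (i : A ⟶ bcK kb G) (i' : A' ⟶ bcK kb G) [IsClosedImmersion i'.left] (h : PtSet i ⊆ PtSet i') :
    ∃ z : A ⟶ A', z ≫ i' = i :=
  factor_of_pts i i' fun x => by
    obtain ⟨q, hq⟩ := exists_secOfPt_eq (x ≫ i)
    obtain ⟨y, hy⟩ := h (show q ∈ PtSet i from ⟨x, hq.symm⟩)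
    exact ⟨y, hy.trans hq⟩

theorem iso_of_ptSet {A A' : Over (Spec (CommRingCat.of kb))} [IsReduced A.left] [LocallyOfFiniteType A.hom]
    [IsReduced A'.left] [LocallyOfFiniteType A'.hom]
    (i : A ⟶ bcK kb G) (i' : A' ⟶ bcK kb G) [IsClosedImmersion i.left] [IsClosedImmersion i'.left]
    (h : PtSet i = PtSet i') : ∃ e : A ≅ A', e.hom ≫ i' = i := by
  haveI : Mono i := Over.mono_of_mono_left i
  haveI : Mono i' := Over.mono_of_mono_left i'
  obtain ⟨f, hf⟩ := factor_of_ptSet i i' h.subset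
  obtain ⟨f', hf'⟩ := factor_of_ptSet i' i h.symm.subset
  exact ⟨⟨f, f', by rw [← cancel_mono i, Category.assoc, hf', hf, Category.id_comp],
    by rw [← cancel_mono i', Category.assoc, hf, hf', Category.id_comp]⟩, hf⟩

end General

section Frob

variable {k : Type u} [Field k] [Finite k] {kb : Type u} [Field kb] [Algebra k kb] [IsAlgClosure k kb]
  (G : Over (Spec (CommRingCat.of k))) [GrpObj G] [IsAffine G.left] [Smooth G.hom] [ConnectedSpace G.left]

/-- The geometric fibre of a smooth connected affine group. -/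
theorem bcK_props : IsAffine (bcK kb G).left ∧ Smooth (bcK kb G).hom ∧ ConnectedSpace (bcK kb G).left :=
  ⟨Groth.L08.Borel.isAffine_bc (SGA7.pt (K := k) kb).hom G, Groth.L08.Borel.smooth_bc (SGA7.pt (K := k) kb).hom G,
    Groth.L08.Borel.connectedSpace_bc' (SGA7.pt (K := k) kb).hom G⟩

/-- The geometric Frobenius as an endomorphism of the geometric fibre. -/
theorem exists_bcFrob : ∃ Φ : bcK kb G ⟶ bcK kb G, IsMonHom Φ ∧ Surjective Φ.left ∧
    ∀ g : SGA7.Pts kb G, secOfPt kb g ≫ Φ = secOfPt kb (frob k kb • g) := by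
  haveI : IsAlgClosed kb := IsAlgClosure.isAlgClosed k
  obtain ⟨hA, hS, hC⟩ := bcK_props (kb := kb) G
  haveI := hA; haveI := hS; haveI := hC
  haveI : LocallyOfFiniteType (bcK kb G).hom := inferInstance
  haveI : IsSeparated (bcK kb G).hom := inferInstance
  haveI : QuasiCompact (bcK kb G).hom := inferInstance
  obtain ⟨F, hF⟩ := exists_frobenius (kb := kb) G
  let Φ := bcMap (K := kb) F
  have hΦ : ∀ g : SGA7.Pts kb G, secOfPt kb g ≫ Φ = secOfPt kb (frob k kb • g) := fun g => by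
    rw [hF, Groth.L24.Count.secOfPt_comp]
  have hΦm : ∀ a b : 𝟙_ _ ⟶ bcK kb G, (a * b) ≫ Φ = (a ≫ Φ) * (b ≫ Φ) := fun a b => by
    obtain ⟨q, rfl⟩ := exists_secOfPt_eq a
    obtain ⟨r, rfl⟩ := exists_secOfPt_eq b
    rw [← secOfPt_mul, hΦ, hΦ, hΦ, smul_mul, secOfPt_mul]
  haveI : Smooth (bcK kb G ⊗ bcK kb G).hom :=
    inferInstanceAs (Smooth (pullback.fst (bcK kb G).hom (bcK kb G).hom ≫ (bcK kb G).hom))
  haveI : IsReduced (bcK kb G ⊗ bcK kb G).left := Groth.Agent.AV.isReduced_of_smooth_field (bcK kb G ⊗ bcK kb G).hom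
  have hm : IsMonHom Φ := by
    refine ⟨?_, hom_ext_pts _ _ fun t => ?_⟩
    · show (1 : 𝟙_ _ ⟶ bcK kb G) ≫ Φ = 1
      exact mul_eq_left.1 ((hΦm 1 1).symm.trans (by rw [_root_.mul_one]))
    · obtain ⟨a, b, rfl⟩ : ∃ a b, lift a b = t := ⟨t ≫ fst _ _, t ≫ snd _ _, lift_comp_fst_snd t⟩
      rw [lift_map_assoc, ← Category.assoc]
      exact hΦm a b
  haveI := hm
  obtain ⟨C, gC, p, i, -, -, hpi, hps, hic, hCs, -, -⟩ := exists_image_smooth Φ
  haveI := hic; haveI := hps
  haveI : IsReduced (bcK kb G).left := Groth.Agent.AV.isReduced_of_smooth_field (bcK kb G).hom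
  obtain ⟨z, hz⟩ := factor_of_ptSet (𝟙 (bcK kb G)) i fun g _ => by
    refine ⟨secOfPt kb ((frob k kb)⁻¹ • g) ≫ p, ?_⟩
    rw [Category.assoc, hpi, hΦ, smul_inv_smul]
  haveI : Surjective i.left := ⟨fun x => ⟨z.left x, by
    rw [← Scheme.Hom.comp_apply, ← Over.comp_left, hz]; rfl⟩⟩
  refine ⟨Φ, hm, ?_, hΦ⟩
  rw [← hpi, Over.comp_left]
  infer_instance

variable {G}

/-- Points of an image under the Frobenius. -/
theorem ptSet_image {A A' : Over (Spec (CommRingCat.of kb))} [LocallyOfFiniteType A.hom] [LocallyOfFiniteType A'.hom]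
    {Φ : bcK kb G ⟶ bcK kb G} (hΦ : ∀ g : SGA7.Pts kb G, secOfPt kb g ≫ Φ = secOfPt kb (frob k kb • g))
    (p : A ⟶ A') [Surjective p.left] (i : A ⟶ bcK kb G) (i' : A' ⟶ bcK kb G) (h : p ≫ i' = i ≫ Φ)
    (x : SGA7.Pts kb G) : x ∈ PtSet i' ↔ (frob k kb)⁻¹ • x ∈ PtSet i := by
  haveI : IsAlgClosed kb := IsAlgClosure.isAlgClosed k
  constructor
  · rintro ⟨y, hy⟩
    obtain ⟨w, rfl⟩ := exists_pt_lift p y (p.left.surjective _)
    obtain ⟨q, hq⟩ := exists_secOfPt_eq (w ≫ i)
    have e : frob k kb • q = x := secOfPt_injective (by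
      rw [← hΦ, hq, Category.assoc, ← h, ← Category.assoc, hy])
    exact ⟨w, by rw [← e, inv_smul_smul, hq]⟩
  · rintro ⟨w, hw⟩
    exact ⟨w ≫ p, by rw [Category.assoc, h, ← Category.assoc, hw, hΦ, smul_inv_smul]⟩

end Frob

end Groth.L24.BorelPair
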