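import Groth.Agent.L24.BorelPair.Basic
import Groth.Agent.L24.Count.StabGroup

/-! A smooth subgroup over the algebraic closure with Frobenius stable points comes from the finite field. -/

set_option autoImplicit false
set_option backward.isDefEq.respectTransparency false
set_option backward.isDefEq.respectTransparency.types false
set_option linter.style.haveILetI false
set_option linter.unusedSectionVars false
set_option maxHeartbeats 1000000

universe u

open CategoryTheory MonoidalCategory CartesianMonoidalCategory MonObj AlgebraicGeometry Limits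
open GalTw TensorProduct WithConv Groth.L24.Count
open Groth.L11.GalTwist (bcMap)
open Groth.L25.Bridge (P bcIso exists_hopf)
open Groth.L08.TorusQuot (SP sp sp_left toPt toPt_pre exists_sp pre ofPt)
open Groth.L08.Borel (unitToSpec)
open Groth.L14.Stack (exists_eq_pow_on)

noncomputable section

namespace Groth.L24.BorelPair

variable {k : Type u} [Field k] [Finite k] {kb : Type u} [Field kb] [Algebra k kb] [IsAlgClosure k kb]
  {G : Over (Spec (CommRingCat.of k))} [GrpObj G] [LocallyOfFiniteType G.hom] [IsAffine G.left]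

/-- Descent of a subgroup whose geometric points are stable under the Frobenius. -/
theorem exists_descent (A : Over (Spec (CommRingCat.of kb))) [GrpObj A] [AlgebraicGeometry.Smooth A.hom]
    (i : A ⟶ bcK kb G) [IsMonHom i] [IsClosedImmersion i.left]
    (hst : ∀ g ∈ PtSet i, frob k kb • g ∈ PtSet i) :
    ∃ (R : Over (Spec (CommRingCat.of k))) (_ : GrpObj R) (j : R ⟶ G), IsMonHom j ∧ IsClosedImmersion j.left ∧
      AlgebraicGeometry.Smooth R.hom ∧ ∃ e : bcK kb R ≅ A, e.hom ≫ i = bcMap j := by
  haveI : IsAlgClosed kb := IsAlgClosure.isAlgClosed k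
  haveI : Algebra.IsAlgebraic k kb := IsAlgClosure.isAlgebraic
  haveI := Fintype.ofFinite k
  haveI : PerfectField k := PerfectField.ofFinite
  obtain ⟨C, _, _, ⟨EG⟩⟩ := exists_hopf (R := k) G
  let eG : G ≅ P k C := (Grp.forget _).mapIso EG
  haveI : IsMonHom eG.hom := EG.hom.hom.isMonHom_hom
  haveI : IsMonHom eG.inv := EG.inv.hom.isMonHom_hom
  haveI : IsIso eG.inv.left := inferInstanceAs (IsIso ((Over.forget _).map eG.inv))
  haveI : Algebra.FiniteType k C := by
    have h : LocallyOfFiniteType (P k C).hom := by rw [← Over.w eG.inv]; infer_instance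
    change LocallyOfFiniteType (Spec.map (CommRingCat.ofHom (algebraMap k C))) at h
    rw [HasRingHomProperty.Spec_iff (P := @LocallyOfFiniteType), CommRingCat.hom_ofHom,
      RingHom.finiteType_algebraMap] at h
    exact h
  haveI : IsAffine (bcK kb G).left := Groth.L08.Borel.isAffine_bc (SGA7.pt (K := k) kb).hom G
  haveI : IsAffine A.left := isAffine_of_isAffineHom i.left
  haveI : Mono i := Over.mono_of_mono_left i
  -- the geometric subgroup as a quotient Hopf algebra
  obtain ⟨D, _, _, ⟨ES⟩⟩ := exists_hopf (R := kb) A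
  let eS : A ≅ P kb D := (Grp.forget _).mapIso ES
  haveI : IsMonHom eS.inv := ES.inv.hom.isMonHom_hom
  let β : bcK kb (P k C) ≅ P kb (kb ⊗[k] C) := (Grp.forget _).mapIso (bcIso k C kb)
  haveI : IsMonHom β.hom := (bcIso k C kb).hom.hom.isMonHom_hom
  let Φ : bcK kb G ≅ bcK kb (P k C) := (Over.pullback (SGA7.pt (K := k) kb).hom).mapIso eG
  haveI : IsMonHom Φ.hom :=
    inferInstanceAs (IsMonHom ((Over.pullback (SGA7.pt (K := k) kb).hom).map eG.hom))
  let g₀ : P kb D ⟶ P kb (kb ⊗[k] C) := eS.inv ≫ i ≫ Φ.hom ≫ β.hom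
  obtain ⟨q, hq₀⟩ := exists_sp g₀
  haveI : IsIso eS.inv.left := inferInstanceAs (IsIso ((Over.forget _).map eS.inv))
  haveI : IsIso Φ.hom.left := inferInstanceAs (IsIso ((Over.forget _).map Φ.hom))
  haveI : IsIso β.hom.left := inferInstanceAs (IsIso ((Over.forget _).map β.hom))
  haveI : IsClosedImmersion (sp q).left := by
    rw [hq₀]
    exact inferInstanceAs (IsClosedImmersion (eS.inv.left ≫ i.left ≫ Φ.hom.left ≫ β.hom.left))
  have hq : Function.Surjective q := by
    haveI : IsClosedImmersion (Spec.map (CommRingCat.ofHom (q : kb ⊗[k] C →+* D))) :=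
      inferInstanceAs (IsClosedImmersion (sp q).left)
    exact surjective_of_isClosedImmersion (q : kb ⊗[k] C →+* D)
  -- membership
  have hmem : ∀ y : C →ₐ[k] kb, InSub q y ↔ (ptE (toConv y) ≫ eG.inv : SGA7.Pts kb G) ∈ PtSet i := by
    intro y
    have key : toPt (toConv (ext y)) =
        toUnit (SP kb kb) ≫ secOfPt kb (ptE (toConv y) ≫ eG.inv) ≫ Φ.hom ≫ β.hom := by
      rw [toPt_ext, Groth.L24.Count.secOfPt_comp, Category.assoc, Category.assoc]
      congr 2
      exact (Φ.inv_hom_id_assoc β.hom).symm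
    refine ⟨fun h => ?_, fun ⟨t, ht⟩ => ?_⟩
    · obtain ⟨dd, hdd⟩ := h.factor hq
      refine ⟨unitToSpec ≫ toPt (toConv dd) ≫ eS.inv, ?_⟩
      have h1 : toPt (toConv (ext y)) = toPt (toConv dd) ≫ sp q := by
        rw [← toPt_pre]
        exact congrArg (fun f => toPt (toConv f)) hdd.symm
      rw [hq₀, key] at h1
      have h3 := congrArg (fun m => unitToSpec ≫ m) h1
      simp only [g₀, Category.assoc] at h3 ⊢
      rw [← Category.assoc unitToSpec (toUnit _), toUnit_unique (unitToSpec ≫ toUnit _) (𝟙 _),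
        Category.id_comp] at h3
      rw [← cancel_mono (Φ.hom ≫ β.hom)]
      simp only [Category.assoc]
      exact h3.symm
    · refine InSub.of_factor hq (ofPt (toUnit (SP kb kb) ≫ t ≫ eS.hom)).ofConv ?_
      have h1 : toPt (pre q (ofPt (toUnit (SP kb kb) ≫ t ≫ eS.hom))) = toPt (toConv (ext y)) := by
        rw [toPt_pre, Groth.L08.TorusQuot.toPt_ofPt, hq₀, key]
        simp only [g₀, Category.assoc, Iso.hom_inv_id_assoc]
        rw [reassoc_of% ht]
      exact congrArg WithConv.ofConv ((Spec.mapMulEquiv (R := kb) (S := kb ⊗[k] C) (T := kb)).injective h1)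
  -- stability
  haveI : LocallyOfFiniteType (P k C).hom := by rw [← Over.w eG.inv]; infer_instance
  have hst' : ∀ (σ : kb ≃ₐ[k] kb) (y : C →ₐ[k] kb), InSub q y → InSub q ((σ : kb →ₐ[k] kb).comp y) := by
    intro σ y hy
    rw [hmem] at hy ⊢
    rw [← smul_ptE]
    obtain ⟨E, hE, hp⟩ := isFin (ptE (toConv y) : SGA7.Pts kb (P k C))
    obtain ⟨m, hm⟩ := exists_eq_pow_on (frob k kb) frob_apply E σ
    rw [hp.smul_eq hm]
    clear hm hp
    induction m with
    | zero => rwa [pow_zero, one_smul]
    | succ m ih =>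
      rw [pow_succ', mul_smul]
      have := hst _ ih
      rwa [show ∀ (τ : kb ≃ₐ[k] kb) (z : SGA7.Pts kb (P k C)),
        τ • (z ≫ eG.inv : SGA7.Pts kb G) = (τ • z : SGA7.Pts kb (P k C)) ≫ eG.inv from
          fun τ z => (Category.assoc (SGA7.specAut τ) z eG.inv).symm] at this
  obtain ⟨R, _, _, π, -, hπs, -, hRft, hRred, hpts, -⟩ := exists_form hq hst'
  let M := P k R
  haveI := hRred
  have hsm : AlgebraicGeometry.Smooth M.hom := smooth_P R hRft
  haveI := hsm
  haveI : IsClosedImmersion (sp π).left := IsClosedImmersion.spec_of_surjective _ hπs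
  let j : M ⟶ G := sp π ≫ eG.inv
  haveI : IsMonHom j := inferInstanceAs (IsMonHom (_ ≫ _))
  haveI : IsClosedImmersion j.left := inferInstanceAs (IsClosedImmersion ((sp π).left ≫ eG.inv.left))
  haveI : AlgebraicGeometry.Smooth (bcK kb M).hom := Groth.L08.Borel.smooth_bc (SGA7.pt (K := k) kb).hom M
  haveI : IsReduced (bcK kb M).left := Groth.Agent.AV.isReduced_of_smooth_field (bcK kb M).hom
  haveI : IsReduced A.left := Groth.Agent.AV.isReduced_of_smooth_field A.hom
  haveI : IsClosedImmersion (bcMap (K := kb) j).left :=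
    Groth.L08.Borel.isClosedImmersion_map (SGA7.pt (K := k) kb).hom j
  obtain ⟨e, he⟩ := iso_of_ptSet (bcMap j) i (Set.ext fun g => by
    rw [ptSet_bcMap]
    obtain ⟨p, rfl⟩ : ∃ p : SGA7.Pts kb (P k C), p ≫ eG.inv = g :=
      ⟨g ≫ eG.hom, by rw [Category.assoc, Iso.hom_inv_id, Category.comp_id]⟩
    let y := (ptE.symm p).ofConv
    have hp : ptE (toConv y) = p := ptE.apply_symm_apply p
    rw [← hp, ← hmem, hpts]
    constructor
    · rintro ⟨p', hp'⟩ a ha
      obtain ⟨y', rfl⟩ := ptE.surjective p'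
      have h0 : ptE y' ≫ sp π = ptE (toConv y) :=
        (cancel_mono eG.inv).1 ((Category.assoc _ _ _).trans hp')
      have h2 : pre π y' = toConv y := ptE.injective ((toPt_pre π y').trans h0)
      show (toConv y).ofConv a = 0
      rw [← h2, Groth.L08.TorusQuot.pre_apply, ha, map_zero]
    · intro h
      let y' : R →ₐ[k] kb := AlgHom.liftOfSurjective (π : C →ₐ[k] R) hπs y fun a ha => h a ha
      refine ⟨ptE (toConv y'), ?_⟩
      show ptE (toConv y') ≫ sp π ≫ eG.inv = ptE (toConv y) ≫ eG.inv
      rw [← Category.assoc]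
      congr 1
      refine (toPt_pre π (toConv y')).symm.trans (congrArg (fun f => ptE (toConv f)) ?_)
      exact AlgHom.ext fun a => AlgHom.liftOfSurjective_apply (π : C →ₐ[k] R) hπs y (fun a ha => h a ha) a)
  exact ⟨M, inferInstance, j, inferInstance, inferInstance, hsm, e, he⟩

end Groth.L24.BorelPair
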